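import Mathlib
import Cfsg.Agent.Lib.Sporadic.Fi23Out.DataA
import Cfsg.Agent.Lib.Sporadic.Fi23Out.DataB

/-! The words. -/

set_option autoImplicit false

namespace Cfsg.Agent.Lib.Sporadic.Fi23Out.Data

open Cfsg.Agent.Lib.Compute.PermCert Cfsg.Agent.Lib.Compute.OutChain Cfsg.Agent.Lib.Compute.OutChainC
open Cfsg.Agent.Lib.Sporadic.Fi23Out.DataE Cfsg.Agent.Lib.Sporadic.Fi23Out.DataA Cfsg.Agent.Lib.Sporadic.Fi23Out.DataB

/-- The words excluding the other candidates. -/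
def kills : List (List Nat × Nat) := [([1, 2, 1, 0, 2, 0], 10), ([2, 2, 0], 23)]

end Cfsg.Agent.Lib.Sporadic.Fi23Out.Data
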