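import Mathlib
import Cfsg.Agent.Lib.Compute.OutFast
import Cfsg.Agent.Lib.Compute.OutPres
import Cfsg.Agent.Lib.Sporadic.Fi23Out.Data
import Cfsg.Agent.Lib.Compute.TC.Fi23a.Final

/-! The kernel checks for the outer automorphism group of the group Fi23. -/

set_option autoImplicit false
set_option maxRecDepth 100000

namespace Cfsg.Agent.Lib.Sporadic.Fi23Out.GensA

open Cfsg.Agent.Lib.Compute.PermCert Cfsg.Agent.Lib.Compute.OutChain Cfsg.Agent.Lib.Compute.OutFinal
open Cfsg.Agent.Lib.Compute.OutChainC Cfsg.Agent.Lib.Compute.OutFinal2 Cfsg.Agent.Lib.Compute.OutPres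
open Cfsg.Agent.Lib.Compute.TCChain Cfsg.Agent.Lib.Compute.TC
open Cfsg.Agent.Lib.Sporadic.Fi23Out.DataE Cfsg.Agent.Lib.Sporadic.Fi23Out.DataA Cfsg.Agent.Lib.Sporadic.Fi23Out.DataB Cfsg.Agent.Lib.Sporadic.Fi23Out.Data

/-- The values of the generators. -/
noncomputable def ev (j i : Nat) : Nat := ev0 Fi23a.cfg j true i

theorem gens_ok : gensWL LL 31671 15 ev lvA0.gens lvA0.gw = true := by decide +kernel

end Cfsg.Agent.Lib.Sporadic.Fi23Out.GensA
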