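import Mathlib
import Cfsg.Agent.Lib.Compute.OutFast
import Cfsg.Agent.Lib.Compute.OutPres
import Cfsg.Agent.Lib.Sporadic.Fi23Out.Data

/-! The kernel checks for the outer automorphism group of the group Fi23. -/

set_option autoImplicit false
set_option maxRecDepth 100000

namespace Cfsg.Agent.Lib.Sporadic.Fi23Out.SearchA

open Cfsg.Agent.Lib.Compute.PermCert Cfsg.Agent.Lib.Compute.OutChain Cfsg.Agent.Lib.Compute.OutFinal
open Cfsg.Agent.Lib.Compute.OutChainC Cfsg.Agent.Lib.Compute.OutFinal2 Cfsg.Agent.Lib.Compute.OutPres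
open Cfsg.Agent.Lib.Sporadic.Fi23Out.DataE Cfsg.Agent.Lib.Sporadic.Fi23Out.DataA Cfsg.Agent.Lib.Sporadic.Fi23Out.DataB Cfsg.Agent.Lib.Sporadic.Fi23Out.Data

theorem ruA : rulesOK 31671 (LL piE.f) [] lrlvA = true := by decide +kernel
theorem sA : searchL LL LT 15 32767 31671 15 (iterF (LL piE.f) 2)
    (fun vf vi => conjLeafL LL piE rhoE 23 (baseL (lrlvA.map Prod.fst)) vf vi ||
      notSol 31671 15 (LL piE.f) (iterF (LL piE.f) 2) vf vi) lrlvA id id = true := by decide +kernel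

end Cfsg.Agent.Lib.Sporadic.Fi23Out.SearchA
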