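import Mathlib
import Cfsg.Agent.Lib.Sporadic.Fi23Out.LvA0
import Cfsg.Agent.Lib.Sporadic.Fi23Out.LvA1
import Cfsg.Agent.Lib.Sporadic.Fi23Out.LvA2
import Cfsg.Agent.Lib.Sporadic.Fi23Out.LvA3
import Cfsg.Agent.Lib.Sporadic.Fi23Out.LvA4
import Cfsg.Agent.Lib.Sporadic.Fi23Out.LvB0
import Cfsg.Agent.Lib.Sporadic.Fi23Out.LvB1
import Cfsg.Agent.Lib.Sporadic.Fi23Out.LvB2
import Cfsg.Agent.Lib.Sporadic.Fi23Out.LvB3
import Cfsg.Agent.Lib.Sporadic.Fi23Out.LvB4
import Cfsg.Agent.Lib.Sporadic.Fi23Out.LvB5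
import Cfsg.Agent.Lib.Sporadic.Fi23Out.NxA0
import Cfsg.Agent.Lib.Sporadic.Fi23Out.NxA1
import Cfsg.Agent.Lib.Sporadic.Fi23Out.NxA2
import Cfsg.Agent.Lib.Sporadic.Fi23Out.NxA3
import Cfsg.Agent.Lib.Sporadic.Fi23Out.NxA4
import Cfsg.Agent.Lib.Sporadic.Fi23Out.NxB0
import Cfsg.Agent.Lib.Sporadic.Fi23Out.NxB1
import Cfsg.Agent.Lib.Sporadic.Fi23Out.NxB2
import Cfsg.Agent.Lib.Sporadic.Fi23Out.NxB3
import Cfsg.Agent.Lib.Sporadic.Fi23Out.NxB4
import Cfsg.Agent.Lib.Sporadic.Fi23Out.NxB5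
import Cfsg.Agent.Lib.Sporadic.Fi23Out.SearchA
import Cfsg.Agent.Lib.Sporadic.Fi23Out.SearchB
import Cfsg.Agent.Lib.Sporadic.Fi23Out.SiftP
import Cfsg.Agent.Lib.Sporadic.Fi23Out.SiftR
import Cfsg.Agent.Lib.Sporadic.Fi23Out.SiftY
import Cfsg.Agent.Lib.Sporadic.Fi23Out.Misc
import Cfsg.Agent.Lib.Sporadic.Fi23Out.GensA
import Cfsg.Agent.S1697

/-! The outer automorphism group of the group Fi23. -/

set_option autoImplicit false
set_option maxRecDepth 100000

namespace Cfsg.Agent.Lib.Sporadic.Fi23Out.Main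

open Cfsg Cfsg.Agent.Lib.Compute.PermCert Cfsg.Agent.Lib.Compute.OutChain Cfsg.Agent.Lib.Compute.OutFinal
open Cfsg.Agent.Lib.Compute.OutChainC Cfsg.Agent.Lib.Compute.OutFinal2 Cfsg.Agent.Lib.Compute.OutPres
  Cfsg.Agent.Lib.Compute.OutFast
open Cfsg.Agent.Lib.Compute.ToddCoxeterCore Cfsg.Agent.Lib.Compute.ToddCoxeterPresented
  Cfsg.Agent.Lib.Compute.TCFast Cfsg.Agent.Lib.Compute.TCChain
open Cfsg.Agent.Lib.Compute.TC Cfsg.Agent.Lib.Compute.PermOut
open Cfsg.Agent.Lib.Sporadic.Fi23Out.DataE Cfsg.Agent.Lib.Sporadic.Fi23Out.DataA Cfsg.Agent.Lib.Sporadic.Fi23Out.DataB Cfsg.Agent.Lib.Sporadic.Fi23Out.Data Cfsg.Agent.Lib.Sporadic.Fi23Out.SearchA Cfsg.Agent.Lib.Sporadic.Fi23Out.SearchB Cfsg.Agent.Lib.Sporadic.Fi23Out.Misc Cfsg.Agent.Lib.Sporadic.Fi23Out.GensA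

/-- The homomorphism from the presented group. -/
noncomputable abbrev phi := phiG Fi23a.hR Fi23a.small Fi23a.big Fi23a.hgens

/-- The group as a permutation group. -/
noncomputable def K : Subgroup (Equiv.Perm (Fin 31671)) := phi.range

theorem card_K : Nat.card K = 4089470473293004800 := by
  have h1 : Nat.card K = Nat.card (PresentedGroup Fi23a.RR) :=
    (Nat.card_congr (MonoidHom.ofInjective S1697.inj.1).toEquiv).symm
  rw [h1, S1697.inj.2]

theorem out_eq : Nat.card (Out Cfsg.Spor.Fi23) = Nat.card (Out K) :=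
  card_out_congr (A := PresentedGroup Fi23a.RR) (MonoidHom.ofInjective S1697.inj.1)

theorem hd : 31671 ≤ 2 ^ 15 := by norm_num

theorem hr : Readers LL LT 15 32767 27 134217727 :=
  Readers.mk' (by decide +kernel) (by decide +kernel) (by decide +kernel) (by decide +kernel) (by decide +kernel) (by decide +kernel)

theorem hLL : LL = get 15 32767 := funext fun p => funext fun i => hr.hL p i

theorem ev_spec (j : Nat) : ∃ x ∈ K, ∀ i : Fin 31671, ev j i = x i :=
  ⟨phi (elG Fi23a.D Fi23a.RR j), ⟨_, rfl⟩, fun i =>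
    (ev0_ok Fi23a.hR Fi23a.small Fi23a.big Fi23a.hgens j i).1⟩

theorem chkA : chkChain 15 32767 31671 27 134217727 (lrlvA.map Prod.fst) = true := by
  show chkChain 15 32767 31671 27 134217727 [lvA0, lvA1, lvA2, lvA3, lvA4] = true
  have h4 : chkChain 15 32767 31671 27 134217727 [lvA4] = true := by
    refine chkChain_cons ?_ ?_ rfl
    · rw [← chkLvL_eq hr hd]; exact Cfsg.Agent.Lib.Sporadic.Fi23Out.LvA4.lv_ok
    · rw [← nextL_eq hr.hL hd]; exact Cfsg.Agent.Lib.Sporadic.Fi23Out.NxA4.nx_ok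
  have h3 : chkChain 15 32767 31671 27 134217727 [lvA3, lvA4] = true := by
    refine chkChain_cons ?_ ?_ h4
    · rw [← chkLvL_eq hr hd]; exact Cfsg.Agent.Lib.Sporadic.Fi23Out.LvA3.lv_ok
    · rw [← nextL_eq hr.hL hd]; exact Cfsg.Agent.Lib.Sporadic.Fi23Out.NxA3.nx_ok
  have h2 : chkChain 15 32767 31671 27 134217727 [lvA2, lvA3, lvA4] = true := by
    refine chkChain_cons ?_ ?_ h3
    · rw [← chkLvL_eq hr hd]; exact Cfsg.Agent.Lib.Sporadic.Fi23Out.LvA2.lv_ok
    · rw [← nextL_eq hr.hL hd]; exact Cfsg.Agent.Lib.Sporadic.Fi23Out.NxA2.nx_ok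
  have h1 : chkChain 15 32767 31671 27 134217727 [lvA1, lvA2, lvA3, lvA4] = true := by
    refine chkChain_cons ?_ ?_ h2
    · rw [← chkLvL_eq hr hd]; exact Cfsg.Agent.Lib.Sporadic.Fi23Out.LvA1.lv_ok
    · rw [← nextL_eq hr.hL hd]; exact Cfsg.Agent.Lib.Sporadic.Fi23Out.NxA1.nx_ok
  have h0 : chkChain 15 32767 31671 27 134217727 [lvA0, lvA1, lvA2, lvA3, lvA4] = true := by
    refine chkChain_cons ?_ ?_ h1
    · rw [← chkLvL_eq hr hd]; exact Cfsg.Agent.Lib.Sporadic.Fi23Out.LvA0.lv_ok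
    · rw [← nextL_eq hr.hL hd]; exact Cfsg.Agent.Lib.Sporadic.Fi23Out.NxA0.nx_ok
  exact h0

theorem chkB : chkChain 15 32767 31671 27 134217727 (lrlvB.map Prod.fst) = true := by
  show chkChain 15 32767 31671 27 134217727 [lvB0, lvB1, lvB2, lvB3, lvB4, lvB5] = true
  have h5 : chkChain 15 32767 31671 27 134217727 [lvB5] = true := by
    refine chkChain_cons ?_ ?_ rfl
    · rw [← chkLvL_eq hr hd]; exact Cfsg.Agent.Lib.Sporadic.Fi23Out.LvB5.lv_ok
    · rw [← nextL_eq hr.hL hd]; exact Cfsg.Agent.Lib.Sporadic.Fi23Out.NxB5.nx_ok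
  have h4 : chkChain 15 32767 31671 27 134217727 [lvB4, lvB5] = true := by
    refine chkChain_cons ?_ ?_ h5
    · rw [← chkLvL_eq hr hd]; exact Cfsg.Agent.Lib.Sporadic.Fi23Out.LvB4.lv_ok
    · rw [← nextL_eq hr.hL hd]; exact Cfsg.Agent.Lib.Sporadic.Fi23Out.NxB4.nx_ok
  have h3 : chkChain 15 32767 31671 27 134217727 [lvB3, lvB4, lvB5] = true := by
    refine chkChain_cons ?_ ?_ h4
    · rw [← chkLvL_eq hr hd]; exact Cfsg.Agent.Lib.Sporadic.Fi23Out.LvB3.lv_ok
    · rw [← nextL_eq hr.hL hd]; exact Cfsg.Agent.Lib.Sporadic.Fi23Out.NxB3.nx_ok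
  have h2 : chkChain 15 32767 31671 27 134217727 [lvB2, lvB3, lvB4, lvB5] = true := by
    refine chkChain_cons ?_ ?_ h3
    · rw [← chkLvL_eq hr hd]; exact Cfsg.Agent.Lib.Sporadic.Fi23Out.LvB2.lv_ok
    · rw [← nextL_eq hr.hL hd]; exact Cfsg.Agent.Lib.Sporadic.Fi23Out.NxB2.nx_ok
  have h1 : chkChain 15 32767 31671 27 134217727 [lvB1, lvB2, lvB3, lvB4, lvB5] = true := by
    refine chkChain_cons ?_ ?_ h2
    · rw [← chkLvL_eq hr hd]; exact Cfsg.Agent.Lib.Sporadic.Fi23Out.LvB1.lv_ok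
    · rw [← nextL_eq hr.hL hd]; exact Cfsg.Agent.Lib.Sporadic.Fi23Out.NxB1.nx_ok
  have h0 : chkChain 15 32767 31671 27 134217727 [lvB0, lvB1, lvB2, lvB3, lvB4, lvB5] = true := by
    refine chkChain_cons ?_ ?_ h1
    · rw [← chkLvL_eq hr hd]; exact Cfsg.Agent.Lib.Sporadic.Fi23Out.LvB0.lv_ok
    · rw [← nextL_eq hr.hL hd]; exact Cfsg.Agent.Lib.Sporadic.Fi23Out.NxB0.nx_ok
  exact h0

theorem ordA : ordC (lrlvA.map Prod.fst) = 4089470473293004800 := by decide +kernel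
theorem ordB : ordC (lrlvB.map Prod.fst) = 4089470473293004800 := by decide +kernel

theorem hA : ChainFor 15 32767 31671 27 134217727 K (lrlvA.map Prod.fst) := by
  refine ⟨chkA, ?_, by rw [ordA, card_K]⟩
  exact gensW_le hd ev_spec (hdG_valid chkA) ((gensWL_eq hr.hL _ _ _).symm.trans gens_ok)

theorem vals : [piE, rhoE, yE].all (validB 15 32767 31671) = true := by
  have h := hdG_valid chkB
  rw [show hdG (lrlvB.map Prod.fst) = [piE, rhoE, yE] from rfl] at h
  exact h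

theorem vP : validB 15 32767 31671 piE = true := by
  have := vals
  simp only [List.all_cons, List.all_nil, Bool.and_true, Bool.and_eq_true] at this
  exact this.1
theorem vR : validB 15 32767 31671 rhoE = true := by
  have := vals
  simp only [List.all_cons, List.all_nil, Bool.and_true, Bool.and_eq_true] at this
  exact this.2.1
theorem vY : validB 15 32767 31671 yE = true := by
  have := vals
  simp only [List.all_cons, List.all_nil, Bool.and_true, Bool.and_eq_true] at this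
  exact this.2.2

theorem memOf {X : Equiv.Perm (Fin 31671)} {g : Nat → Nat} (hg : ∀ i : Fin 31671, g i = X i)
    (hs : siftL LL LT 15 32767 31671 15 (lrlvA.map Prod.fst) g = true) : X ∈ K := by
  rw [siftL_eq hr hd] at hs
  exact hA.le (siftC_sound _ X g hA.chk hg hs)

theorem mP : permOf 15 32767 31671 piE ∈ K := memOf (by rw [hLL]; exact gt_eq vP) Cfsg.Agent.Lib.Sporadic.Fi23Out.SiftP.sift
theorem mR : permOf 15 32767 31671 rhoE ∈ K := memOf (by rw [hLL]; exact gt_eq vR) Cfsg.Agent.Lib.Sporadic.Fi23Out.SiftR.sift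
theorem mY : permOf 15 32767 31671 yE ∈ K := memOf (by rw [hLL]; exact gt_eq vY) Cfsg.Agent.Lib.Sporadic.Fi23Out.SiftY.sift

theorem hB : ChainFor 15 32767 31671 27 134217727 K (lrlvB.map Prod.fst) := by
  refine ⟨chkB, ?_, by rw [ordB, card_K]⟩
  refine (Subgroup.closure_le _).mpr ?_
  rintro _ ⟨e, he, rfl⟩
  have he' : e ∈ [piE, rhoE, yE] := he
  simp only [List.mem_cons, List.not_mem_nil, or_false] at he'
  rcases he' with rfl | rfl | rfl
  · exact mP
  · exact mR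
  · exact mY

instance factP : Fact (Nat.Prime 23) := ⟨by norm_num⟩

theorem hpow : permOf 15 32767 31671 piE ^ 23 = 1 :=
  pow_of_base hA vP mP (by have h := powP; rw [hLL] at h; exact h)

theorem hRq : permOf 15 32767 31671 rhoE ^ 11 = 1 :=
  pow_of_base hA vR mR (by have h := powR; rw [hLL] at h; exact h)

theorem hrel : permOf 15 32767 31671 rhoE * permOf 15 32767 31671 piE = permOf 15 32767 31671 piE ^ 2 * permOf 15 32767 31671 rhoE :=
  rel_of_base hA vP vR mP mR (by have h := relR; rw [hLL] at h; exact h)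

theorem hkF : killsOK 31671 15 (gt 15 32767 piE) (gt 15 32767 rhoE) (gt 15 32767 yE) kills = true :=
  killsOK_of_base hA hd mP mR mY (gt_eq vP) (gt_eq vR) (gt_eq vY) (by have h := kF; rw [hLL] at h; exact h)

theorem hconjP : ∀ x ∈ K, x * permOf 15 32767 31671 piE = permOf 15 32767 31671 piE ^ 2 * x →
    ∃ c : ℕ, x = permOf 15 32767 31671 piE ^ c * permOf 15 32767 31671 rhoE * (permOf 15 32767 31671 piE ^ c)⁻¹ := by
  refine hconjS_of_search hA hd vP vR mP mR hpow ?_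
  have hs := sA
  rw [searchL_eq hr hd, hLL] at hs
  exact search_useO hA hd (X := permOf 15 32767 31671 piE) (X' := permOf 15 32767 31671 piE ^ 2) (gt_eq vP)
    (fun i => by rw [iterF_eq]; exact iter_eq (gt_eq vP) _ _) (by have h := ruA; rw [hLL] at h; exact h) hs

theorem vZ' : validB 15 32767 31671 rhoE = true := vR

theorem hZ : permOf 15 32767 31671 rhoE = permOf 15 32767 31671 rhoE ^ 1 := (pow_one _).symm

theorem mZ : permOf 15 32767 31671 rhoE ∈ K := mR

theorem hyZ : permOf 15 32767 31671 yE * permOf 15 32767 31671 rhoE = permOf 15 32767 31671 rhoE * permOf 15 32767 31671 yE :=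
  comm_of_base hA vY vZ' mY mZ (by have h := commYZ; rw [hLL] at h; exact h)

theorem hleafB : ∀ c ∈ K, (∀ a, c (permOf 15 32767 31671 rhoE a) = permOf 15 32767 31671 rhoE (c a)) →
    ∃ vf vi, Rep c vf vi ∧ finLeaf1i 15 32767 piE rhoE yE kills (baseL (lrlvB.map Prod.fst)) vf vi = true := by
  have hs := sB
  rw [searchL_eq hr hd, hLL] at hs
  exact search_useP hB (X := permOf 15 32767 31671 rhoE) (X' := permOf 15 32767 31671 rhoE) (gt_eq vZ') (gt_eq vZ')
    (by have h := ruB; rw [hLL] at h; exact h) hs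

/-- The outer automorphism group of the group. -/
theorem card_out : Nat.card (Out Cfsg.Spor.Fi23) = 1 := by
  rw [out_eq]
  refine card_out_one_inv' (p := 23) (r := 2) (zk := 1) (pe := piE) (re := rhoE) (ye := yE) (ze := rhoE)
    (kills := kills) hB hd rfl vP vR vY ?_ hpow ?_ hrel ?_ vZ' hZ hyZ hconjP hleafB hkF
  · rw [card_K]; norm_num
  · exact ne_one_of_point vP (i := 0) (by norm_num) (by decide +kernel)
  · exact hexp2_of_check (by norm_num) (by decide)

end Cfsg.Agent.Lib.Sporadic.Fi23Out.Main
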